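/-
Commutative normal closures from few relations (Campbell–Robertson–Williams trick) and the resulting
action of a finite field.
-/
import Mathlib

namespace CfsgLib.SL2Pres

open Polynomial
open scoped IsMulCommutative

section Group

variable {G : Type*} [Group G]

/-- The `i`-th conjugate. -/
def cj (h u : G) (i : ℕ) : G := h ^ i * u * (h ^ i)⁻¹

theorem cj_zero (h u : G) : cj h u 0 = u := by simp [cj]

theorem cj_conj (h u : G) (i j : ℕ) : h ^ i * cj h u j * (h ^ i)⁻¹ = cj h u (i + j) := by
  simp only [cj, pow_add]; group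

theorem commute_cj {h u : G} {i j : ℕ} (m : ℕ) (hc : Commute (cj h u i) (cj h u j)) :
    Commute (cj h u (m + i)) (cj h u (m + j)) := by
  rw [← cj_conj h u m i, ← cj_conj h u m j]
  exact (Commute.conj_iff (h ^ m)).mpr hc

/-- Evaluation of an integer polynomial on the conjugates by the powers of `h ^ k`. -/
def ev (h u : G) (k : ℕ) (P : ℤ[X]) : G :=
  ((List.range (P.natDegree + 1)).map fun i => cj h u (k * i) ^ P.coeff i).prod

theorem map_cj {H : Type*} [Group H] (f : G →* H) (h u : G) (i : ℕ) :
    f (cj h u i) = cj (f h) (f u) i := by simp [cj]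

theorem map_ev {H : Type*} [Group H] (f : G →* H) (h u : G) (k : ℕ) (P : ℤ[X]) :
    f (ev h u k P) = ev (f h) (f u) k P := by
  simp [ev, map_list_prod, List.map_map, Function.comp_def, map_cj, map_zpow]

theorem ev_mem (K : Subgroup G) (h u : G) (k : ℕ) (P : ℤ[X])
    (hK : ∀ i ≤ P.natDegree, cj h u (k * i) ∈ K) : ev h u k P ∈ K := by
  refine K.list_prod_mem fun x hx => ?_
  obtain ⟨i, hi, rfl⟩ := List.mem_map.mp hx
  exact K.zpow_mem (hK i (Nat.lt_succ_iff.mp (List.mem_range.mp hi))) _

theorem commute_of_mem_closure {S : Set G} (hS : ∀ a ∈ S, ∀ b ∈ S, Commute a b) {x y : G}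
    (hx : x ∈ Subgroup.closure S) (hy : y ∈ Subgroup.closure S) : Commute x y := by
  induction hx using Subgroup.closure_induction with
  | mem a ha =>
    induction hy using Subgroup.closure_induction with
    | mem b hb => exact hS a ha b hb
    | one => exact Commute.one_right _
    | mul b c _ _ hb hc => exact hb.mul_right hc
    | inv b _ hb => exact hb.inv_right
  | one => exact Commute.one_left _
  | mul a b _ _ ha hb => exact ha.mul_left hb
  | inv a _ ha => exact ha.inv_left

/-- All conjugates commute when the first `d` of them commute with `u` and the `d`-th is a combination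
of the earlier ones. -/
theorem commute_of_short {h u : G} {d : ℕ} (hd : 0 < d) (hcomm : ∀ i < d, Commute u (cj h u i))
    (hrec : cj h u d ∈ Subgroup.closure ((fun i => cj h u i) '' Set.Iio d)) (i j : ℕ) :
    Commute (cj h u i) (cj h u j) := by
  set S := (fun i => cj h u i) '' Set.Iio d with hS
  have hSc : ∀ a ∈ S, ∀ b ∈ S, Commute a b := by
    rintro _ ⟨a, ha, rfl⟩ _ ⟨b, hb, rfl⟩
    rcases le_total a b with hab | hab
    · have := commute_cj (h := h) (u := u) a (i := 0) (j := b - a) (by rw [cj_zero]; exact hcomm _ (lt_of_le_of_lt (Nat.sub_le _ _) hb))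
      rwa [add_zero, Nat.add_sub_cancel' hab] at this
    · have := commute_cj (h := h) (u := u) b (i := 0) (j := a - b) (by rw [cj_zero]; exact hcomm _ (lt_of_le_of_lt (Nat.sub_le _ _) ha))
      rw [add_zero, Nat.add_sub_cancel' hab] at this
      exact this.symm
  have hinv : ∀ x ∈ Subgroup.closure S, h * x * h⁻¹ ∈ Subgroup.closure S := by
    intro x hx
    have : (Subgroup.closure S).map (MulAut.conj h).toMonoidHom ≤ Subgroup.closure S := by
      rw [MonoidHom.map_closure, Subgroup.closure_le]
      rintro _ ⟨_, ⟨a, ha, rfl⟩, rfl⟩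
      have e : (MulAut.conj h).toMonoidHom (cj h u a) = cj h u (1 + a) := by
        simpa using cj_conj h u 1 a
      rw [e]
      rcases eq_or_ne (1 + a) d with he | he
      · rw [he]; exact hrec
      · exact Subgroup.subset_closure ⟨1 + a, by simp only [Set.mem_Iio] at ha ⊢; omega, rfl⟩
    exact this ⟨x, hx, rfl⟩
  have hall : ∀ m, cj h u m ∈ Subgroup.closure S := by
    intro m
    induction m with
    | zero => exact Subgroup.subset_closure ⟨0, hd, rfl⟩
    | succ m ih =>
      have := hinv _ ih
      rwa [show h * cj h u m * h⁻¹ = cj h u (m + 1) by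
        rw [add_comm m 1, ← cj_conj h u 1 m, pow_one]] at this
  exact commute_of_mem_closure hSc (hall i) (hall j)

/-- The trick: two relations give infinitely many commutations. -/
theorem commute_crw {h u : G} {k l : ℕ} (hrel : cj h u l = u * cj h u k) (hc : Commute u (cj h u k))
    (n : ℕ) : Commute u (cj h u (k * n)) := by
  induction n using Nat.strong_induction_on with
  | _ n ih =>
    match n with
    | 0 => rw [mul_zero, cj_zero]
    | 1 => rwa [mul_one]
    | n + 2 =>
      have h1 := commute_cj (h := h) (u := u) l (i := 0) (j := k * (n + 1)) (by rw [cj_zero]; exact ih (n + 1) (by omega))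
      rw [add_zero, hrel, add_comm l, ← cj_conj h u (k * (n + 1)) l, hrel] at h1
      set P := cj h u (k * (n + 1)) with hP
      set Q := cj h u (k * (n + 2)) with hQ
      have hPQ : h ^ (k * (n + 1)) * (u * cj h u k) * (h ^ (k * (n + 1)))⁻¹ = P * Q := by
        simp only [hP, hQ, cj, Nat.mul_succ, pow_add]; group
      rw [hPQ] at h1
      have huP : Commute u P := ih (n + 1) (by omega)
      have hkP : Commute (cj h u k) P := by
        have := commute_cj (h := h) (u := u) k (i := 0) (j := k * n) (by rw [cj_zero]; exact ih n (by omega))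
        rwa [add_zero, add_comm k, ← Nat.mul_succ] at this
      have hkQ : Commute (cj h u k) Q := by
        have := commute_cj (h := h) (u := u) k (i := 0) (j := k * (n + 1)) (by rw [cj_zero]; exact ih (n + 1) (by omega))
        rwa [add_zero, add_comm k, ← Nat.mul_succ] at this
      have h2 : Commute (u * cj h u k) Q := by
        have := ((huP.mul_left hkP).inv_right).mul_right h1
        rwa [inv_mul_cancel_left] at this
      have h3 := h2.mul_left hkQ.inv_left
      rwa [mul_inv_cancel_right] at h3

theorem commute_of_crw {h u : G} {k l : ℕ} (hrel : cj h u l = u * cj h u k) (hc : Commute u (cj h u k))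
    (hgen : cj h u 1 ∈ Subgroup.closure (Set.range fun i => cj h u (k * i))) (i j : ℕ) :
    Commute (cj h u i) (cj h u j) := by
  set S := Set.range fun i => cj h u (k * i) with hS
  have hSc : ∀ a ∈ S, ∀ b ∈ S, Commute a b := by
    rintro _ ⟨a, rfl⟩ _ ⟨b, rfl⟩
    rcases le_total a b with hab | hab
    · have := commute_cj (h := h) (u := u) (k * a) (i := 0) (j := k * (b - a)) (by rw [cj_zero]; exact commute_crw hrel hc _)
      rwa [add_zero, ← mul_add, Nat.add_sub_cancel' hab] at this
    · have := commute_cj (h := h) (u := u) (k * b) (i := 0) (j := k * (a - b)) (by rw [cj_zero]; exact commute_crw hrel hc _)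
      rw [add_zero, ← mul_add, Nat.add_sub_cancel' hab] at this
      exact this.symm
  have hall : ∀ m, cj h u m ∈ Subgroup.closure S := by
    intro m
    induction m with
    | zero => exact Subgroup.subset_closure ⟨0, by simp⟩
    | succ m ih =>
      have hle : (Subgroup.closure S).map (MulAut.conj h).toMonoidHom ≤ Subgroup.closure S := by
        rw [MonoidHom.map_closure, Subgroup.closure_le]
        rintro _ ⟨_, ⟨a, rfl⟩, rfl⟩
        have e : (MulAut.conj h).toMonoidHom (cj h u (k * a)) =
            (MulAut.conj (h ^ (k * a))).toMonoidHom (cj h u 1) := by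
          simp only [cj, MulEquiv.coe_toMonoidHom, MulAut.conj_apply, pow_one]
          group
        rw [e]
        have hle2 : (Subgroup.closure S).map (MulAut.conj (h ^ (k * a))).toMonoidHom ≤ Subgroup.closure S := by
          rw [MonoidHom.map_closure, Subgroup.closure_le]
          rintro _ ⟨_, ⟨b, rfl⟩, rfl⟩
          exact Subgroup.subset_closure ⟨a + b, by
            show cj h u (k * (a + b)) = h ^ (k * a) * cj h u (k * b) * (h ^ (k * a))⁻¹
            rw [cj_conj, mul_add]⟩
        exact hle2 ⟨_, hgen, rfl⟩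
      have := hle ⟨_, ih, rfl⟩
      rwa [show (MulAut.conj h).toMonoidHom (cj h u m) = cj h u (m + 1) by
        rw [add_comm m 1, ← cj_conj h u 1 m, pow_one]; rfl] at this
  exact commute_of_mem_closure hSc (hall i) (hall j)

end Group

section Field

variable {F : Type*} [Field F] {G : Type*} [Group G]

/-- A commutative orbit killed by generators of the kernel of `ℤ[X] → F` carries an action of `F`. -/
theorem exists_field_hom (σ : F) (hgen : ∀ a : F, ∃ P : ℤ[X], aeval σ P = a) (h u : G)
    (hcomm : ∀ i j, Commute (cj h u i) (cj h u j)) (S : Set ℤ[X])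
    (hker : ∀ P : ℤ[X], aeval σ P = 0 → P ∈ Ideal.span S)
    (hS : ∀ P ∈ S, ∃ (k : ℕ) (Q : ℤ[X]), P = Q.comp (X ^ k) ∧ ev h u k Q = 1 ∨
      P = X - Q.comp (X ^ k) ∧ cj h u 1 = ev h u k Q) :
    ∃ φ : Multiplicative F →* G, φ (Multiplicative.ofAdd 1) = u ∧
      ∀ a, h * φ (Multiplicative.ofAdd a) * h⁻¹ = φ (Multiplicative.ofAdd (σ * a)) := by
  set A := Subgroup.closure (Set.range fun i => cj h u i) with hA
  haveI : IsMulCommutative A := ⟨⟨fun x y => Subtype.ext (commute_of_mem_closure
    (by rintro _ ⟨i, rfl⟩ _ ⟨j, rfl⟩; exact hcomm i j) x.2 y.2).eq⟩⟩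
  let gen : ℕ → Additive A := fun i => Additive.ofMul ⟨cj h u i, Subgroup.subset_closure ⟨i, rfl⟩⟩
  let Φ : ℤ[X] →ₗ[ℤ] Additive A := (Polynomial.basisMonomials ℤ).constr ℤ gen
  have hΦ : ∀ i, Φ (X ^ i) = gen i := fun i => by
    rw [Polynomial.X_pow_eq_monomial]
    exact ((congrArg Φ (congrFun (Polynomial.coe_basisMonomials ℤ) i)).symm).trans
      (Module.Basis.constr_basis _ _ _ _)
  let val : Additive A →+ Additive G := (A.subtype).toAdditive
  have hmonX : ∀ (i : ℕ) (c : ℤ), ((Additive.toMul (Φ (C c * X ^ i)) : A) : G) = cj h u i ^ c := fun i c => by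
    rw [← Polynomial.smul_eq_C_mul, map_zsmul, hΦ, toMul_zsmul, SubgroupClass.coe_zpow]
    rfl
  have hX : ∀ P : ℤ[X], ((Additive.toMul (Φ (X * P)) : A) : G) =
      h * ((Additive.toMul (Φ P) : A) : G) * h⁻¹ := by
    intro P
    induction P using Polynomial.induction_on' with
    | add P Q hP hQ =>
      rw [mul_add, map_add Φ, map_add Φ, toMul_add, toMul_add, Subgroup.coe_mul, Subgroup.coe_mul, hP, hQ]
      group
    | monomial i c =>
      rw [← Polynomial.C_mul_X_pow_eq_monomial, mul_left_comm, ← pow_succ', hmonX, hmonX,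
        add_comm i 1, ← cj_conj h u 1 i, conj_zpow, pow_one]
  have hev : ∀ (k : ℕ) (Q : ℤ[X]), ((Additive.toMul (Φ (Q.comp (X ^ k))) : A) : G) = ev h u k Q := by
    intro k Q
    have e : Q.comp (X ^ k) = ∑ i ∈ Finset.range (Q.natDegree + 1), C (Q.coeff i) * X ^ (k * i) := by
      conv_lhs => rw [Q.as_sum_range_C_mul_X_pow]
      simp [Polynomial.sum_comp, Polynomial.mul_comp, pow_mul]
    rw [e, map_sum, toMul_sum, Finset.prod_eq_multiset_prod, Finset.range_val, Multiset.range,
      Multiset.map_coe, Multiset.prod_coe, ev]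
    rw [show ∀ l : List A, ((l.prod : A) : G) = (l.map Subtype.val).prod from
      fun l => map_list_prod A.subtype l, List.map_map]
    congr 1
    refine List.map_congr_left fun i _ => ?_
    exact hmonX _ _
  -- the annihilator is an ideal
  have hmul : ∀ R P : ℤ[X], Φ P = 0 → Φ (R * P) = 0 := by
    intro R
    induction R using Polynomial.induction_on' with
    | add R₁ R₂ h₁ h₂ => intro P hP; rw [add_mul, map_add, h₁ P hP, h₂ P hP, add_zero]
    | monomial i c =>
      intro P hP
      induction i with
      | zero =>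
        rw [Polynomial.monomial_zero_left, ← Polynomial.smul_eq_C_mul, map_zsmul, hP, smul_zero]
      | succ i ih =>
        rw [← Polynomial.C_mul_X_pow_eq_monomial] at ih ⊢
        rw [show C c * X ^ (i + 1) * P = X * (C c * X ^ i * P) by ring]
        apply Additive.toMul.injective
        apply Subtype.ext
        rw [hX, ih]
        simp
  have hSz : ∀ P ∈ Ideal.span S, Φ P = 0 := by
    intro P hP
    induction hP using Submodule.span_induction with
    | mem P hP =>
      obtain ⟨k, Q, ⟨rfl, hQ⟩ | ⟨rfl, hQ⟩⟩ := hS P hP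
      · apply Additive.toMul.injective
        apply Subtype.ext
        rw [hev, hQ]; rfl
      · rw [map_sub, sub_eq_zero]
        apply Additive.toMul.injective
        apply Subtype.ext
        have h1 := hmonX 1 1
        rw [map_one, one_mul, pow_one, zpow_one] at h1
        rw [hev, h1, hQ]
    | zero => exact map_zero Φ
    | add P Q _ _ hP hQ => rw [map_add, hP, hQ, add_zero]
    | smul R P _ hP => exact hmul R P hP
  have hwd : ∀ P Q : ℤ[X], aeval σ P = aeval σ Q → Φ P = Φ Q := fun P Q e => by
    rw [← sub_eq_zero, ← map_sub]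
    exact hSz _ (hker _ (by rw [map_sub, e, sub_self]))
  choose lift hlift using hgen
  refine ⟨{ toFun := fun a => ((Additive.toMul (Φ (lift (Multiplicative.toAdd a))) : A) : G)
            map_one' := ?_
            map_mul' := fun a b => ?_ }, ?_, fun a => ?_⟩
  · rw [toAdd_one, hwd (lift 0) 0 (by rw [hlift, map_zero]), map_zero]; rfl
  · rw [toAdd_mul, hwd (lift _) (lift (Multiplicative.toAdd a) + lift (Multiplicative.toAdd b))
      (by rw [hlift, map_add, hlift, hlift]), map_add, toMul_add, Subgroup.coe_mul]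
  · show ((Additive.toMul (Φ (lift (1 : F))) : A) : G) = u
    rw [hwd (lift 1) (X ^ 0) (by rw [hlift, pow_zero, map_one]), hΦ]
    exact cj_zero h u
  · show h * _ * h⁻¹ = ((Additive.toMul (Φ (lift (σ * a))) : A) : G)
    rw [hwd (lift (σ * a)) (X * lift a) (by rw [hlift, map_mul, aeval_X, hlift]), hX]
    rfl

/-- The kernel of evaluation at `σ`, when `σ = G(x)` and `m` lifts the minimal polynomial of `x`. -/
theorem ker_le_span (p : ℕ) [Fact p.Prime] [CharP F p] [Algebra (ZMod p) F] (σ x : F) (k : ℕ)
    (hx : x = σ ^ k) (Gp : ℤ[X]) (hG : aeval x Gp = σ) (m : ℤ[X])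
    (hm : m.map (Int.castRingHom (ZMod p)) = minpoly (ZMod p) x) (P : ℤ[X]) (hP : aeval σ P = 0) :
    P ∈ Ideal.span ({C (p : ℤ), m.comp (X ^ k), X - Gp.comp (X ^ k)} : Set ℤ[X]) := by
  set I := Ideal.span ({C (p : ℤ), m.comp (X ^ k), X - Gp.comp (X ^ k)} : Set ℤ[X]) with hI
  have hcomp : P - (P.comp Gp).comp (X ^ k) ∈ I := by
    rw [Polynomial.comp_assoc, ← Ideal.Quotient.eq]
    have hXG : Ideal.Quotient.mk I X = Ideal.Quotient.mk I (Gp.comp (X ^ k)) :=
      Ideal.Quotient.eq.mpr (Ideal.subset_span (by simp))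
    have h1 : ∀ y : ℤ[X], Ideal.Quotient.mk I (P.comp y) = aeval (Ideal.Quotient.mk I y) P := fun y => by
      rw [← Ideal.Quotient.mkₐ_eq_mk ℤ, aeval_algHom_apply, Polynomial.comp_eq_aeval]
    rw [h1, ← hXG, ← h1, Polynomial.comp_X]
  have hR : aeval x (P.comp Gp) = 0 := by rw [aeval_comp, hG, hP]
  have hdvd : minpoly (ZMod p) x ∣ (P.comp Gp).map (Int.castRingHom (ZMod p)) := by
    refine minpoly.dvd _ _ ?_
    rw [← algebraMap_int_eq, aeval_map_algebraMap]
    exact hR
  obtain ⟨Q, hQ⟩ := hdvd
  obtain ⟨Q', rfl⟩ := Polynomial.map_surjective (Int.castRingHom (ZMod p)) ZMod.intCast_surjective Q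
  have hC : C (p : ℤ) ∣ P.comp Gp - m * Q' := by
    rw [Polynomial.C_dvd_iff_dvd_coeff]
    intro i
    rw [← ZMod.intCast_zmod_eq_zero_iff_dvd]
    show Int.castRingHom (ZMod p) _ = 0
    rw [← Polynomial.coeff_map,
      Polynomial.map_sub, Polynomial.map_mul, hm, hQ, sub_self, Polynomial.coeff_zero]
  obtain ⟨R, hR'⟩ := hC
  have hmem : (P.comp Gp).comp (X ^ k) ∈ I := by
    rw [show P.comp Gp = m * Q' + C (p : ℤ) * R by rw [← hR']; ring, Polynomial.add_comp, Polynomial.mul_comp,
      Polynomial.mul_comp, Polynomial.C_comp]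
    exact I.add_mem (I.mul_mem_right _ (Ideal.subset_span (by simp)))
      (I.mul_mem_right _ (Ideal.subset_span (by simp)))
  have := I.add_mem hcomp hmem
  rwa [sub_add_cancel] at this

end Field

end CfsgLib.SL2Pres
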