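/-
Short relator lists for the normal subgroup of root elements in a presentation of SL₂(q).
-/
import Mathlib
import Cfsg.Agent.Lib.SL2Pres.Orbit

namespace CfsgLib.SL2Pres

open Polynomial

universe u

variable {F : Type u} [Field F]

/-- Naturality of `ev` along a homomorphism from the additive group of the field. -/
theorem ev_eq_hom {G : Type*} [Group G] (φ : Multiplicative F →* G) (σ : F) (h : G)
    (hφ : ∀ a, h * φ (Multiplicative.ofAdd a) * h⁻¹ = φ (Multiplicative.ofAdd (σ * a))) (k : ℕ) (P : ℤ[X]) :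
    ev h (φ (Multiplicative.ofAdd 1)) k P = φ (Multiplicative.ofAdd (aeval (σ ^ k) P)) := by
  have hc : ∀ i, cj h (φ (Multiplicative.ofAdd 1)) i = φ (Multiplicative.ofAdd (σ ^ i)) := by
    intro i
    induction i with
    | zero => rw [cj_zero, pow_zero]
    | succ i ih =>
      rw [add_comm i 1, ← cj_conj h _ 1 i, ih, pow_one, hφ, pow_add, pow_one]
  rw [aeval_eq_sum_range, ofAdd_sum, Finset.prod_eq_multiset_prod, Finset.range_val, Multiset.range,
    Multiset.map_coe, Multiset.prod_coe, map_list_prod, List.map_map, ev]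
  congr 1
  refine List.map_congr_left fun i _ => ?_
  rw [Function.comp_apply, hc, ← map_zpow, ← ofAdd_zsmul, ← pow_mul]

/-- The word `u`. -/
def U : FreeGroup (Fin 3) := FreeGroup.of 0
/-- The word `t`. -/
def T : FreeGroup (Fin 3) := FreeGroup.of 1
/-- The word `h`. -/
def H : FreeGroup (Fin 3) := FreeGroup.of 2

theorem exists_int_poly_of_adjoin [Finite F] (p : ℕ) [Fact p.Prime] [CharP F p] {f : ℕ}
    (hf : Nat.card F = p ^ f) {y : F} (hy : ∀ d, d ∣ f → d < f → y ^ p ^ d ≠ y) (a : F) :
    ∃ P : ℤ[X], aeval y P = a := by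
  let _ : Algebra (ZMod p) F := ZMod.algebra F p
  haveI : Module.Finite (ZMod p) F := Module.Finite.of_finite
  set S := IntermediateField.adjoin (ZMod p) ({y} : Set F) with hS
  have hfF : Module.finrank (ZMod p) F = f := by
    have h := Module.natCard_eq_pow_finrank (K := ZMod p) (V := F)
    rw [hf, Nat.card_zmod] at h
    exact (Nat.pow_right_injective (Fact.out : p.Prime).two_le h).symm
  have hdvd : Module.finrank (ZMod p) S ∣ f := ⟨Module.finrank S F, by rw [Module.finrank_mul_finrank, hfF]⟩
  have hd : Module.finrank (ZMod p) S = f := by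
    rcases lt_or_eq_of_le (Nat.le_of_dvd (hfF ▸ Module.finrank_pos) hdvd) with h | h
    · exfalso
      refine hy _ hdvd h ?_
      haveI := Fintype.ofFinite S
      have h1 := FiniteField.pow_card (⟨y, IntermediateField.mem_adjoin_simple_self _ y⟩ : S)
      rw [← Nat.card_eq_fintype_card, Module.natCard_eq_pow_finrank (K := ZMod p) (V := S), Nat.card_zmod] at h1
      exact congrArg Subtype.val h1
    · exact h
  have htop : (⊤ : IntermediateField (ZMod p) F) = S :=
    (IntermediateField.eq_of_le_of_finrank_eq le_top (by rw [hd, IntermediateField.finrank_top', hfF])).symm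
  have hmem : a ∈ Algebra.adjoin (ZMod p) ({y} : Set F) := by
    rw [← IntermediateField.adjoin_simple_toSubalgebra_of_isAlgebraic (Algebra.IsAlgebraic.isAlgebraic y),
      IntermediateField.mem_toSubalgebra]
    show a ∈ S
    rw [← htop]
    exact IntermediateField.mem_top
  rw [Algebra.adjoin_singleton_eq_range_aeval] at hmem
  obtain ⟨P, rfl⟩ := hmem
  obtain ⟨P', rfl⟩ := Polynomial.map_surjective (Int.castRingHom (ZMod p)) ZMod.intCast_surjective P
  exact ⟨P', by rw [AlgHom.toRingHom_eq_coe, RingHom.coe_coe, ← algebraMap_int_eq, aeval_map_algebraMap]⟩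

/-- For large `f` some element generates the field and, together with its successor, is a nonzero square. -/
theorem exists_good_element [Fintype F] (p : ℕ) [Fact p.Prime] [CharP F p] (hp : p ≠ 2) {f : ℕ}
    (hf : Fintype.card F = p ^ f) (h5 : 5 ≤ f) :
    ∃ x : F, (∀ d, d ∣ f → d < f → x ^ p ^ d ≠ x) ∧ (∃ a : F, a ≠ 0 ∧ x = a * a) ∧
      ∃ b : F, b ≠ 0 ∧ 1 + x = b * b := by
  classical
  have hp3 : 3 ≤ p := by have := (Fact.out : p.Prime).two_le; omega
  set q := Fintype.card F with hq
  set M := f / 2 with hM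
  let bad : Finset F := (Finset.range (M + 1)).biUnion fun d =>
    if d = 0 then ∅ else Finset.univ.filter fun y => y ^ p ^ d = y
  have hbad : bad.card ≤ 2 * p ^ M := by
    have h1 : bad.card ≤ ∑ d ∈ Finset.range (M + 1), p ^ d := by
      refine Finset.card_biUnion_le.trans (Finset.sum_le_sum fun d _ => ?_)
      split
      · simp
      · next hd =>
        have h1 : 1 < p ^ d := Nat.one_lt_pow hd (by omega)
        have hne : (X ^ (p ^ d) - X : F[X]) ≠ 0 := FiniteField.X_pow_card_sub_X_ne_zero F h1
        refine le_trans (Finset.card_le_card (t := (X ^ (p ^ d) - X : F[X]).roots.toFinset) fun y hy => ?_)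
          ((Multiset.toFinset_card_le _).trans ((Polynomial.card_roots' _).trans
            (FiniteField.X_pow_card_sub_X_natDegree_eq F h1).le))
        rw [Multiset.mem_toFinset, Polynomial.mem_roots hne]
        simp [(Finset.mem_filter.mp hy).2]
    refine h1.trans ?_
    clear_value M
    clear h1 bad hM
    induction M with
    | zero => simp
    | succ M ih =>
      rw [Finset.sum_range_succ, pow_succ]
      nlinarith [Nat.one_le_pow M p (by omega)]
  let dom : Finset F := Finset.univ.filter fun s => s ≠ 0 ∧ s ^ 4 ≠ 1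
  have h2 : (2 : F) ≠ 0 := fun h => hp (by
    rw [show (2 : F) = ((2 : ℕ) : F) by norm_num, CharP.cast_eq_zero_iff F p] at h
    exact (Nat.prime_dvd_prime_iff_eq Fact.out Nat.prime_two).mp h)
  let φ : F → F := fun s => ((s - s⁻¹) / 2) * ((s - s⁻¹) / 2)
  have hdom : q ≤ dom.card + 5 := by
    have hcompl : (Finset.univ.filter fun s : F => ¬ (s ≠ 0 ∧ s ^ 4 ≠ 1)).card ≤ 5 := by
      refine le_trans (Finset.card_le_card (t := insert 0 (Polynomial.nthRoots 4 (1 : F)).toFinset) fun s hs => ?_)
        ((Finset.card_insert_le _ _).trans (Nat.succ_le_succ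
          ((Multiset.toFinset_card_le _).trans (Polynomial.card_nthRoots 4 1))))
      simp only [Finset.mem_filter, Finset.mem_univ, true_and, not_and, not_not] at hs
      rw [Finset.mem_insert, Multiset.mem_toFinset, Polynomial.mem_nthRoots (by norm_num)]
      exact or_iff_not_imp_left.mpr hs
    have h := Finset.card_filter_add_card_filter_not (s := (Finset.univ : Finset F)) (fun s => s ≠ 0 ∧ s ^ 4 ≠ 1)
    rw [Finset.card_univ, ← hq] at h
    change dom.card + _ = q at h
    omega
  have hfib : ∀ x : F, (dom.filter fun s => φ s = x).card ≤ 4 := by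
    intro x
    let P : F[X] := X ^ 4 - C (2 + 4 * x) * X ^ 2 + C 1
    have hdeg : P.natDegree = 4 := by
      show (X ^ 4 - C (2 + 4 * x) * X ^ 2 + C 1 : F[X]).natDegree = 4
      compute_degree!
    have hne : P ≠ 0 := fun h => by rw [h, Polynomial.natDegree_zero] at hdeg; omega
    refine le_trans (Finset.card_le_card (t := P.roots.toFinset) fun s hs => ?_)
      ((Multiset.toFinset_card_le _).trans ((Polynomial.card_roots' _).trans hdeg.le))
    obtain ⟨hs0, hs⟩ := Finset.mem_filter.mp hs
    have hs0' : s ≠ 0 := (Finset.mem_filter.mp hs0).2.1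
    rw [Multiset.mem_toFinset, Polynomial.mem_roots hne, Polynomial.IsRoot.def]
    simp only [P, eval_add, eval_sub, eval_mul, eval_pow, eval_X, eval_C]
    rw [← hs]
    simp only [φ]
    field_simp
    ring
  have hlarge : bad.card < (dom.image φ).card := by
    have h1 := Finset.card_le_mul_card_image (f := φ) dom 4 fun x _ => hfib x
    have h3 : 27 * p ^ M ≤ q := by
      rw [hf]
      calc 27 * p ^ M ≤ p ^ 3 * p ^ M := Nat.mul_le_mul_right _ (Nat.pow_le_pow_left hp3 3)
        _ = p ^ (3 + M) := (pow_add _ _ _).symm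
        _ ≤ p ^ f := Nat.pow_le_pow_right (by omega) (by omega)
    have := Nat.one_le_pow M p (by omega)
    omega
  obtain ⟨x, hx, hxb⟩ := Finset.exists_mem_notMem_of_card_lt_card hlarge
  obtain ⟨s, hs, rfl⟩ := Finset.mem_image.mp hx
  obtain ⟨hs0, hs4⟩ := (Finset.mem_filter.mp hs).2
  refine ⟨φ s, fun d hd hdlt hfix => hxb ?_, ⟨(s - s⁻¹) / 2, ?_, rfl⟩, ⟨(s + s⁻¹) / 2, ?_, ?_⟩⟩
  · have hd0 : d ≠ 0 := fun h => by subst h; rw [Nat.zero_dvd] at hd; omega
    obtain ⟨e, he⟩ := hd
    have he2 : 2 ≤ e := by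
      rcases e with _ | _ | e
      · omega
      · omega
      · omega
    have hle : d ≤ M := by
      rw [hM, Nat.le_div_iff_mul_le (by norm_num), he]
      exact Nat.mul_le_mul_left d he2
    rw [Finset.mem_biUnion]
    exact ⟨d, Finset.mem_range.mpr (by omega), by rw [if_neg hd0]; simp [hfix]⟩
  · intro h
    rcases div_eq_zero_iff.mp h with h | h
    · apply hs4
      have : s * s = 1 := by rw [sub_eq_zero] at h; nth_rewrite 2 [h]; exact mul_inv_cancel₀ hs0
      linear_combination (s * s + 1) * this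
    · exact h2 h
  · intro h
    rcases div_eq_zero_iff.mp h with h | h
    · apply hs4
      have : s * s = -1 := by
        rw [add_eq_zero_iff_eq_neg] at h
        nth_rewrite 2 [h]
        rw [mul_neg, mul_inv_cancel₀ hs0]
      linear_combination (s * s - 1) * this
    · exact h2 h
  · simp only [φ]
    field_simp
    ring

/-- Conditions on a list of relators making the normal closure of `u` under `h` an image of the field. -/
def IsModuleRels (σ : F) (R : List (FreeGroup (Fin 3))) : Prop :=
  (∀ (G : Type) [Group G] (f : FreeGroup (Fin 3) →* G), (∀ w ∈ R, f w = 1) →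
    ∃ φ : Multiplicative F →* G, φ (Multiplicative.ofAdd 1) = f U ∧
      ∀ a, f H * φ (Multiplicative.ofAdd a) * (f H)⁻¹ = φ (Multiplicative.ofAdd (σ * a))) ∧
  ∀ (G : Type u) [Group G] (f : FreeGroup (Fin 3) →* G) (φ : Multiplicative F →* G),
    φ (Multiplicative.ofAdd 1) = f U →
    (∀ a, f H * φ (Multiplicative.ofAdd a) * (f H)⁻¹ = φ (Multiplicative.ofAdd (σ * a))) →
    ∀ w ∈ R, f w = 1

theorem exists_monic_lift (p : ℕ) [Fact p.Prime] {m : (ZMod p)[X]} (hm : m.Monic) :
    ∃ m' : ℤ[X], m'.map (Int.castRingHom (ZMod p)) = m ∧ m'.natDegree = m.natDegree ∧ m'.Monic :=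
  Polynomial.lifts_and_natDegree_eq_and_monic (Polynomial.map_surjective (Int.castRingHom (ZMod p))
    ZMod.intCast_surjective m) hm

theorem ev_X {G : Type*} [Group G] (h u : G) (k : ℕ) : ev h u k X = cj h u k := by
  simp [ev, Polynomial.natDegree_X, List.range_succ, Polynomial.coeff_X]

theorem ev_C {G : Type*} [Group G] (h u : G) (c : ℤ) : ev h u 0 (C c) = u ^ c := by
  simp [ev, cj_zero]

/-- At most five relators suffice, and at most three in characteristic two. -/
theorem exists_moduleRels [Fintype F] (p : ℕ) [Fact p.Prime] [CharP F p] {f : ℕ}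
    (hf : Fintype.card F = p ^ f) (σ : F) (hgen : ∀ a : F, ∃ P : ℤ[X], aeval σ P = a)
    (hsq : ∀ a : F, a ≠ 0 → ∃ i : ℕ, a * a = σ ^ i) :
    ∃ R : List (FreeGroup (Fin 3)), R.length ≤ (if p = 2 then 3 else 5) ∧ IsModuleRels σ R := by
  classical
  let _ : Algebra (ZMod p) F := ZMod.algebra F p
  haveI : Module.Finite (ZMod p) F := Module.Finite.of_finite
  have hfF : Module.finrank (ZMod p) F = f := by
    have h := Module.natCard_eq_pow_finrank (K := ZMod p) (V := F)
    rw [Nat.card_eq_fintype_card, hf, Nat.card_zmod] at h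
    exact (Nat.pow_right_injective (Fact.out : p.Prime).two_le h).symm
  have hchar : ((p : ℤ) : F) = 0 := by rw [Int.cast_natCast, CharP.cast_eq_zero]
  have haev : ∀ (k : ℕ) (x : F), σ ^ k = x → ∀ m : ℤ[X],
      m.map (Int.castRingHom (ZMod p)) = minpoly (ZMod p) x → aeval (σ ^ k) m = 0 := by
    intro k x hk m hm
    rw [hk, ← aeval_map_algebraMap (ZMod p), algebraMap_int_eq, hm, minpoly.aeval]
  by_cases hsmall : (p = 2 ∧ f ≤ 2) ∨ (p ≠ 2 ∧ f ≤ 4)
  · -- few commutators
    obtain ⟨m, hm, hmd, hmm⟩ := exists_monic_lift p (minpoly.monic (Algebra.IsIntegral.isIntegral σ (R := ZMod p)))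
    set d := m.natDegree with hd
    have hdpos : 0 < d := by rw [hmd]; exact minpoly.natDegree_pos (Algebra.IsIntegral.isIntegral σ)
    have hdf : d ≤ f := by rw [hmd, ← hfF]; exact minpoly.natDegree_le σ
    refine ⟨U ^ (p : ℤ) :: ev H U 1 m ::
      (List.range (d - 1)).map (fun i => U * cj H U (i + 1) * U⁻¹ * (cj H U (i + 1))⁻¹), ?_, ?_, ?_⟩
    · simp only [List.length_cons, List.length_map, List.length_range]
      rcases hsmall with ⟨h, hf2⟩ | ⟨h, hf4⟩
      · rw [if_pos h]; omega
      · rw [if_neg h]; omega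
    · intro G _ g hg
      simp only [List.forall_mem_cons, List.forall_mem_map, List.mem_range] at hg
      obtain ⟨hp, hev, hc⟩ := hg
      rw [map_zpow] at hp
      rw [map_ev] at hev
      have hc' : ∀ i < d, Commute (g U) (cj (g H) (g U) i) := by
        intro i hi
        rcases i with - | i
        · rw [cj_zero]
        · have h := hc i (by omega)
          rw [map_mul, map_mul, map_mul, map_inv, map_inv, map_cj, mul_inv_eq_one, mul_inv_eq_iff_eq_mul] at h
          exact h
      have hrec : cj (g H) (g U) d ∈ Subgroup.closure ((fun i => cj (g H) (g U) i) '' Set.Iio d) := by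
        rw [ev, ← hd, List.range_succ, List.map_append, List.prod_append, List.map_singleton,
          List.prod_singleton, one_mul, show m.coeff d = 1 from hmm.coeff_natDegree, zpow_one] at hev
        rw [eq_inv_of_mul_eq_one_right hev]
        refine inv_mem (Subgroup.list_prod_mem _ fun x hx => ?_)
        obtain ⟨i, hi, rfl⟩ := List.mem_map.mp hx
        rw [one_mul]
        refine Subgroup.zpow_mem _ (Subgroup.subset_closure ?_) _
        exact ⟨i, Set.mem_Iio.mpr (List.mem_range.mp hi), rfl⟩
      refine exists_field_hom σ hgen (g H) (g U) (commute_of_short hdpos hc' hrec)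
        {C (p : ℤ), m.comp (X ^ 1), X - (X : ℤ[X]).comp (X ^ 1)}
        (ker_le_span p σ σ 1 (pow_one σ).symm X (aeval_X σ) m hm) ?_
      intro P hP
      simp only [Set.mem_insert_iff, Set.mem_singleton_iff] at hP
      rcases hP with rfl | rfl | rfl
      · exact ⟨0, C (p : ℤ), Or.inl ⟨by simp, by rw [ev_C, hp]⟩⟩
      · exact ⟨1, m, Or.inl ⟨rfl, hev⟩⟩
      · exact ⟨1, X, Or.inr ⟨rfl, (ev_X _ _ _).symm⟩⟩
    · intro G _ g φ hU hH
      simp only [List.forall_mem_cons, List.forall_mem_map, List.mem_range]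
      refine ⟨?_, ?_, fun i _ => ?_⟩
      · rw [map_zpow, ← hU, ← map_zpow, ← ofAdd_zsmul, zsmul_eq_mul, hchar, zero_mul, ofAdd_zero, map_one]
      · rw [map_ev, ← hU, ev_eq_hom φ σ _ hH, haev 1 σ (pow_one σ) m hm, ofAdd_zero, map_one]
      · have h := ev_eq_hom φ σ _ hH (i + 1) X
        rw [ev_X] at h
        rw [map_mul, map_mul, map_mul, map_inv, map_inv, map_cj, ← hU, h, ← map_mul, mul_comm, map_mul,
          mul_inv_cancel_right, mul_inv_cancel]
  · -- the trick
    push Not at hsmall
    obtain ⟨x, k, l, G₀, hk, hl, hxgen, hG₀, hp2⟩ : ∃ (x : F) (k l : ℕ) (G₀ : ℤ[X]), σ ^ k = x ∧ σ ^ l = 1 + x ∧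
        (∀ a : F, ∃ P : ℤ[X], aeval x P = a) ∧ aeval x G₀ = σ ∧ (p = 2 → k = 1 ∧ G₀ = X) := by
      by_cases hp2 : p = 2
      · have hf3 := hsmall.1 hp2
        have h1 : 1 + σ ≠ 0 := by
          intro h
          have hs : σ = 1 := by
            subst hp2
            rw [add_eq_zero_iff_neg_eq] at h
            rw [← h, CharTwo.neg_eq]
          obtain ⟨m, hm, hmd, -⟩ := exists_monic_lift p (minpoly.monic (Algebra.IsIntegral.isIntegral σ (R := ZMod p)))
          have hall : ∀ a : F, a ^ p = a := by
            intro a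
            obtain ⟨P, rfl⟩ := hgen a
            have he : aeval σ P = ((P.eval 1 : ℤ) : F) := by
              have h1 : σ = algebraMap ℤ F 1 := by rw [hs, map_one]
              rw [h1, aeval_algebraMap_apply_eq_algebraMap_eval, algebraMap_int_eq, Int.coe_castRingHom]
            rw [he]
            exact map_intCast (frobenius F p) (P.eval 1)
          have : Fintype.card F ≤ p := by
            have hne : (X ^ p - X : F[X]) ≠ 0 :=
              FiniteField.X_pow_card_sub_X_ne_zero F (Fact.out : p.Prime).one_lt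
            refine (Finset.card_le_card (t := (X ^ p - X : F[X]).roots.toFinset) (s := Finset.univ)
              fun y _ => ?_).trans ((Multiset.toFinset_card_le _).trans ((Polynomial.card_roots' _).trans
                (FiniteField.X_pow_card_sub_X_natDegree_eq F (Fact.out : p.Prime).one_lt).le))
            rw [Multiset.mem_toFinset, Polynomial.mem_roots hne]
            simp [hall y]
          rw [hf] at this
          have : p ^ 2 ≤ p ^ f := Nat.pow_le_pow_right (Fact.out : p.Prime).pos (by omega)
          nlinarith [(Fact.out : p.Prime).two_le]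
        obtain ⟨c, hc⟩ : ∃ c : F, c * c = 1 + σ := by
          subst hp2
          obtain ⟨c, hc⟩ := FiniteField.isSquare_of_char_two (ringChar.eq F 2) (1 + σ)
          exact ⟨c, hc.symm⟩
        obtain ⟨l, hl⟩ := hsq c (fun h => h1 (by rw [← hc, h, mul_zero]))
        exact ⟨σ, 1, l, X, pow_one σ, by rw [← hl, hc], hgen, aeval_X σ, fun _ => ⟨rfl, rfl⟩⟩
      · obtain ⟨x, hx, ⟨a, ha, hxa⟩, ⟨b, hb, hxb⟩⟩ := exists_good_element p hp2 hf (hsmall.2 hp2)
        obtain ⟨k, hk⟩ := hsq a ha
        obtain ⟨l, hl⟩ := hsq b hb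
        have hxgen := exists_int_poly_of_adjoin p (by rw [Nat.card_eq_fintype_card]; exact hf) hx
        obtain ⟨G₀, hG₀⟩ := hxgen σ
        exact ⟨x, k, l, G₀, by rw [← hk, hxa], by rw [← hl, hxb], hxgen, hG₀, fun h => absurd h hp2⟩
    obtain ⟨m, hm, -, -⟩ := exists_monic_lift p (minpoly.monic (Algebra.IsIntegral.isIntegral x (R := ZMod p)))
    let Rbase : List (FreeGroup (Fin 3)) :=
      [U ^ (p : ℤ), cj H U l * (U * cj H U k)⁻¹, ev H U k m]
    let Rextra : List (FreeGroup (Fin 3)) :=
      if p = 2 then [] else [U * cj H U k * U⁻¹ * (cj H U k)⁻¹, cj H U 1 * (ev H U k G₀)⁻¹]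
    refine ⟨Rbase ++ Rextra, ?_, ?_, ?_⟩
    · simp only [Rbase, Rextra]; split <;> simp
    · intro G _ g hg
      simp only [List.forall_mem_append, Rbase, List.forall_mem_cons] at hg
      obtain ⟨⟨hp, hP, hev, -⟩, hx2⟩ := hg
      rw [map_zpow] at hp
      rw [map_mul, map_inv, map_mul, map_cj, map_cj, mul_inv_eq_one] at hP
      rw [map_ev] at hev
      obtain ⟨hc, hG⟩ : Commute (g U) (cj (g H) (g U) k) ∧
          cj (g H) (g U) 1 = ev (g H) (g U) k G₀ := by
        by_cases h2 : p = 2
        · subst h2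
          obtain ⟨rfl, rfl⟩ := hp2 rfl
          refine ⟨?_, (ev_X _ _ _).symm⟩
          have hu : g U * g U = 1 := by
            rw [← zpow_two]
            exact hp
          have hck : cj (g H) (g U) 1 * cj (g H) (g U) 1 = 1 := by
            simp only [cj]
            rw [show ∀ a b : G, a * b * a⁻¹ * (a * b * a⁻¹) = a * (b * b) * a⁻¹ from fun a b => by group, hu]
            group
          have hcl : cj (g H) (g U) l * cj (g H) (g U) l = 1 := by
            simp only [cj]
            rw [show ∀ a b : G, a * b * a⁻¹ * (a * b * a⁻¹) = a * (b * b) * a⁻¹ from fun a b => by group, hu]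
            group
          rw [hP] at hcl
          have h3 := eq_inv_of_mul_eq_one_left hcl
          rw [mul_inv_rev, inv_eq_of_mul_eq_one_right hu, inv_eq_of_mul_eq_one_right hck] at h3
          exact h3
        · simp only [Rextra, if_neg h2, List.forall_mem_cons] at hx2
          obtain ⟨h1, h3, -⟩ := hx2
          rw [map_mul, map_mul, map_mul, map_inv, map_inv, map_cj, mul_inv_eq_one, mul_inv_eq_iff_eq_mul] at h1
          rw [map_mul, map_inv, map_cj, map_ev, mul_inv_eq_one] at h3
          exact ⟨h1, h3⟩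
      have hgen1 : cj (g H) (g U) 1 ∈ Subgroup.closure (Set.range fun i => cj (g H) (g U) (k * i)) := by
        rw [hG]
        exact ev_mem _ _ _ _ _ fun i _ => Subgroup.subset_closure ⟨i, rfl⟩
      refine exists_field_hom σ hgen (g H) (g U) (commute_of_crw hP hc hgen1)
        {C (p : ℤ), m.comp (X ^ k), X - G₀.comp (X ^ k)}
        (ker_le_span p σ x k hk.symm G₀ hG₀ m hm) ?_
      intro P hP'
      simp only [Set.mem_insert_iff, Set.mem_singleton_iff] at hP'
      rcases hP' with rfl | rfl | rfl
      · exact ⟨0, C (p : ℤ), Or.inl ⟨by simp, by rw [ev_C, hp]⟩⟩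
      · exact ⟨k, m, Or.inl ⟨rfl, hev⟩⟩
      · exact ⟨k, G₀, Or.inr ⟨rfl, hG⟩⟩
    · intro G _ g φ hU hH
      have hcjk : ∀ i, cj (g H) (g U) i = φ (Multiplicative.ofAdd (σ ^ i)) := fun i => by
        rw [← ev_X, ← hU, ev_eq_hom φ σ _ hH, aeval_X]
      simp only [List.forall_mem_append, Rbase, List.forall_mem_cons]
      refine ⟨⟨?_, ?_, ?_, fun _ h => by simp at h⟩, ?_⟩
      · rw [map_zpow, ← hU, ← map_zpow, ← ofAdd_zsmul, zsmul_eq_mul, hchar, zero_mul, ofAdd_zero, map_one]
      · rw [map_mul, map_inv, map_mul, map_cj, map_cj, hcjk, hcjk, hl, hk, ← hU, ← map_mul, mul_inv_eq_one,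
          ← ofAdd_add]
      · rw [map_ev, ← hU, ev_eq_hom φ σ _ hH, haev k x hk m hm, ofAdd_zero, map_one]
      · simp only [Rextra]
        split
        · simp
        · simp only [List.forall_mem_cons]
          refine ⟨?_, ?_, fun _ h => by simp at h⟩
          · rw [map_mul, map_mul, map_mul, map_inv, map_inv, map_cj, hcjk, ← hU, ← map_mul, mul_comm, map_mul,
              mul_inv_cancel_right, mul_inv_cancel]
          · rw [map_mul, map_inv, map_cj, map_ev, hcjk, ← hU, ev_eq_hom φ σ _ hH, hk, hG₀, pow_one, mul_inv_cancel]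

end CfsgLib.SL2Pres
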