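/-
Bruhat-type bound for groups satisfying the few relations, and the resulting presentations.
-/
import Mathlib
import Cfsg.Agent.Lib.SL2Pres.Words

namespace CfsgLib.SL2Pres

variable {F : Type*} [Field F] [Fintype F]

section Bound

variable {G : Type*} [Group G]

theorem powers_relations (ρ : F) (hρ0 : ρ ≠ 0) (t h : G) (φ : Multiplicative F →* G)
    (hφ : ∀ a, h * φ (Multiplicative.ofAdd a) * h⁻¹ = φ (Multiplicative.ofAdd (ρ * ρ * a)))
    (hT : t * h * t⁻¹ = h⁻¹)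
    (hB : φ (Multiplicative.ofAdd 1) * (t * φ (Multiplicative.ofAdd 1) * t⁻¹) * φ (Multiplicative.ofAdd 1) = t)
    (hD : φ (Multiplicative.ofAdd ρ) * (t * φ (Multiplicative.ofAdd ρ⁻¹) * t⁻¹) * φ (Multiplicative.ofAdd ρ) = h * t)
    (j : ℕ) :
    φ (Multiplicative.ofAdd (ρ ^ j)) * (t * φ (Multiplicative.ofAdd (ρ ^ j)⁻¹) * t⁻¹) *
      φ (Multiplicative.ofAdd (ρ ^ j)) = h ^ j * t := by
  induction j using Nat.twoStepInduction with
  | zero => simpa using hB
  | one => simpa using hD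
  | more j ih _ =>
    have ht : h * t * h⁻¹ = h * h * t := by
      calc h * t * h⁻¹ = h * t * (t * h * t⁻¹) * (t * h * t⁻¹)⁻¹ * h⁻¹ := by group
        _ = h * t * (t * h * t⁻¹)⁻¹⁻¹ * (t * h * t⁻¹)⁻¹ * h⁻¹ := by group
        _ = h * t * h⁻¹ := by rw [hT]; group
        _ = h * (t * h⁻¹) := by group
        _ = h * (h * t) := by
          have h2 : t * h⁻¹ = h * t := by
            have h3 := congrArg (fun x => x⁻¹) hT
            simp only [mul_inv_rev, inv_inv] at h3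
            calc t * h⁻¹ = t * (h⁻¹ * t⁻¹) * t := by group
              _ = h * t := by rw [h3]
          rw [h2]
        _ = h * h * t := by group
    have hlow : ∀ b : F, h * (t * φ (Multiplicative.ofAdd b) * t⁻¹) * h⁻¹ =
        t * φ (Multiplicative.ofAdd ((ρ * ρ)⁻¹ * b)) * t⁻¹ := by
      intro b
      have h2 := hφ ((ρ * ρ)⁻¹ * b)
      rw [← mul_assoc (ρ * ρ), mul_inv_cancel₀ (mul_ne_zero hρ0 hρ0), one_mul] at h2
      have h3 : h * t = t * h⁻¹ := by
        calc h * t = (h⁻¹)⁻¹ * t := by group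
          _ = (t * h * t⁻¹)⁻¹ * t := by rw [hT]
          _ = t * h⁻¹ := by group
      calc h * (t * φ (Multiplicative.ofAdd b) * t⁻¹) * h⁻¹
          = (h * t) * φ (Multiplicative.ofAdd b) * (h * t)⁻¹ := by group
        _ = t * h⁻¹ * φ (Multiplicative.ofAdd b) * (t * h⁻¹)⁻¹ := by rw [h3]
        _ = _ := by rw [← h2]; group
    calc φ (Multiplicative.ofAdd (ρ ^ (j + 2))) * (t * φ (Multiplicative.ofAdd (ρ ^ (j + 2))⁻¹) * t⁻¹) *
          φ (Multiplicative.ofAdd (ρ ^ (j + 2)))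
        = (h * φ (Multiplicative.ofAdd (ρ ^ j)) * h⁻¹) *
          (h * (t * φ (Multiplicative.ofAdd (ρ ^ j)⁻¹) * t⁻¹) * h⁻¹) *
          (h * φ (Multiplicative.ofAdd (ρ ^ j)) * h⁻¹) := by
          rw [hφ, hlow, show ρ * ρ * ρ ^ j = ρ ^ (j + 2) by rw [pow_add, pow_two, mul_comm],
            show (ρ * ρ)⁻¹ * (ρ ^ j)⁻¹ = (ρ ^ (j + 2))⁻¹ by rw [← mul_inv, pow_add, pow_two, mul_comm]]
      _ = h * (h ^ j * t) * h⁻¹ := by rw [← ih]; group
      _ = h * h ^ j * h⁻¹ * (h * t * h⁻¹) := by group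
      _ = h ^ (j + 2) * t := by rw [ht]; group

theorem half_power (ρ : F) (hρ0 : ρ ≠ 0) (t h : G) (φ : Multiplicative F →* G)
    (hφ : ∀ a, h * φ (Multiplicative.ofAdd a) * h⁻¹ = φ (Multiplicative.ofAdd (ρ * ρ * a)))
    (hT : t * h * t⁻¹ = h⁻¹)
    (hB : φ (Multiplicative.ofAdd 1) * (t * φ (Multiplicative.ofAdd 1) * t⁻¹) * φ (Multiplicative.ofAdd 1) = t)
    (hD : φ (Multiplicative.ofAdd ρ) * (t * φ (Multiplicative.ofAdd ρ⁻¹) * t⁻¹) * φ (Multiplicative.ofAdd ρ) = h * t)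
    (N : ℕ) (hN : ρ ^ N = -1) : t * t = h ^ N ∧ h ^ (2 * N) = 1 ∧ Commute (h ^ N) t := by
  have h1 := powers_relations ρ hρ0 t h φ hφ hT hB hD N
  rw [hN, inv_neg, inv_one, ofAdd_neg, map_inv] at h1
  have h2 : t⁻¹ = h ^ N * t := by
    rw [← h1]
    conv_lhs => rw [← hB]
    group
  have h3 : t * t = (h ^ N)⁻¹ := by
    rw [eq_inv_iff_mul_eq_one]
    calc t * t * h ^ N = t * (t * (h ^ N * t) * t⁻¹) := by group
      _ = 1 := by rw [← h2]; group
  have h4 : t * h ^ N * t⁻¹ = (h ^ N)⁻¹ := by rw [← conj_pow, hT, inv_pow]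
  have h5 : t * h ^ N * t⁻¹ = h ^ N := by
    have : h ^ N = (t * t)⁻¹ := by rw [h3, inv_inv]
    rw [this]; group
  refine ⟨?_, ?_, ?_⟩
  · rw [h3, ← h4, h5]
  · rw [two_mul, pow_add]
    conv_lhs => arg 1; rw [← h5, h4]
    exact inv_mul_cancel _
  · show h ^ N * t = t * h ^ N
    conv_lhs => arg 1; rw [← h5]
    group

theorem card_le_of_relations (ρ : F) (hρ0 : ρ ≠ 0) (hρgen : ∀ a : F, a ≠ 0 → ∃ j : ℕ, a = ρ ^ j)
    (u t h : G) (hgen : Subgroup.closure ({u, t, h} : Set G) = ⊤) (φ : Multiplicative F →* G)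
    (hu : φ (Multiplicative.ofAdd 1) = u)
    (hφ : ∀ a, h * φ (Multiplicative.ofAdd a) * h⁻¹ = φ (Multiplicative.ofAdd (ρ * ρ * a)))
    (hT : t * h * t⁻¹ = h⁻¹)
    (hB : φ (Multiplicative.ofAdd 1) * (t * φ (Multiplicative.ofAdd 1) * t⁻¹) * φ (Multiplicative.ofAdd 1) = t)
    (hD : φ (Multiplicative.ofAdd ρ) * (t * φ (Multiplicative.ofAdd ρ⁻¹) * t⁻¹) * φ (Multiplicative.ofAdd ρ) = h * t)
    (e : ℕ) (he0 : 0 < e) (he : h ^ e = 1) :
    Finite G ∧ Nat.card G ≤ Fintype.card F * e * (Fintype.card F + 1) := by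
  classical
  let P : Fin e × F → G := fun x => φ (Multiplicative.ofAdd x.2) * h ^ x.1.val
  have hmod : ∀ i : ℕ, h ^ i = h ^ (i % e) := fun i => by
    conv_lhs => rw [← Nat.div_add_mod i e, pow_add, pow_mul, he, one_pow, one_mul]
  have hP : ∀ (a : F) (i : ℕ), φ (Multiplicative.ofAdd a) * h ^ i ∈ Set.range P := fun a i =>
    ⟨(⟨i % e, Nat.mod_lt _ he0⟩, a), by simp only [P]; rw [← hmod]⟩
  obtain ⟨N, hN⟩ := hρgen (-1) (neg_ne_zero.mpr one_ne_zero)
  obtain ⟨htt, hN2, hcomm⟩ := half_power ρ hρ0 t h φ hφ hT hB hD N hN.symm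
  have hconj : ∀ (i : ℕ) (a : F),
      h ^ i * φ (Multiplicative.ofAdd a) * (h ^ i)⁻¹ = φ (Multiplicative.ofAdd ((ρ * ρ) ^ i * a)) := by
    intro i
    induction i with
    | zero => intro a; simp
    | succ i ih =>
      intro a
      calc h ^ (i + 1) * φ (Multiplicative.ofAdd a) * (h ^ (i + 1))⁻¹
          = h * (h ^ i * φ (Multiplicative.ofAdd a) * (h ^ i)⁻¹) * h⁻¹ := by group
        _ = _ := by rw [ih, hφ, ← mul_assoc, ← pow_succ']
  have hmove : ∀ (i : ℕ) (a : F), φ (Multiplicative.ofAdd a) * h ^ i =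
      h ^ i * φ (Multiplicative.ofAdd (((ρ * ρ) ^ i)⁻¹ * a)) := by
    intro i a
    have h2 := hconj i (((ρ * ρ) ^ i)⁻¹ * a)
    rw [← mul_assoc, mul_inv_cancel₀ (pow_ne_zero _ (mul_ne_zero hρ0 hρ0)), one_mul] at h2
    rw [← h2]; group
  let S : Set G := Set.range P ∪ Set.range fun z : (Fin e × F) × F => P z.1 * t * φ (Multiplicative.ofAdd z.2)
  have hS2 : ∀ (a : F) (i : ℕ) (b : F),
      φ (Multiplicative.ofAdd a) * h ^ i * t * φ (Multiplicative.ofAdd b) ∈ S := fun a i b => by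
    obtain ⟨z, hz⟩ := hP a i
    exact Or.inr ⟨(z, b), by simp only; rw [hz]⟩
  have hth : ∀ i : ℕ, t * h ^ i = h ^ (i * (e - 1)) * t := by
    intro i
    have h1 : h ^ (e - 1) = h⁻¹ := by
      rw [eq_inv_iff_mul_eq_one, ← pow_succ, Nat.sub_add_cancel he0, he]
    rw [mul_comm, pow_mul, h1, ← hT, conj_pow, inv_mul_cancel_right]
  have hu' : ∀ s ∈ S, ∀ c : F, s * φ (Multiplicative.ofAdd c) ∈ S := by
    rintro s (⟨⟨i, a⟩, rfl⟩ | ⟨⟨⟨i, a⟩, b⟩, rfl⟩) c
    · refine Or.inl ?_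
      have e1 : P (i, a) * φ (Multiplicative.ofAdd c) =
          φ (Multiplicative.ofAdd (a + (ρ * ρ) ^ i.val * c)) * h ^ i.val := by
        simp only [P]; rw [ofAdd_add, map_mul, ← hconj]; group
      rw [e1]; exact hP _ _
    · have e1 : P (i, a) * t * φ (Multiplicative.ofAdd b) * φ (Multiplicative.ofAdd c) =
          φ (Multiplicative.ofAdd a) * h ^ i.val * t * φ (Multiplicative.ofAdd (b + c)) := by
        simp only [P]; rw [ofAdd_add, map_mul]; group
      rw [e1]; exact hS2 _ _ _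
  have hh' : ∀ s ∈ S, ∀ k : ℕ, s * h ^ k ∈ S := by
    rintro s (⟨⟨i, a⟩, rfl⟩ | ⟨⟨⟨i, a⟩, b⟩, rfl⟩) k
    · refine Or.inl ?_
      simp only [P]
      rw [mul_assoc, ← pow_add]; exact hP _ _
    · have e1 : P (i, a) * t * φ (Multiplicative.ofAdd b) * h ^ k =
          φ (Multiplicative.ofAdd a) * h ^ (i.val + k * (e - 1)) * t *
            φ (Multiplicative.ofAdd (((ρ * ρ) ^ k)⁻¹ * b)) := by
        simp only [P]
        calc φ (Multiplicative.ofAdd a) * h ^ i.val * t * φ (Multiplicative.ofAdd b) * h ^ k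
            = φ (Multiplicative.ofAdd a) * h ^ i.val * t * (φ (Multiplicative.ofAdd b) * h ^ k) := by group
          _ = φ (Multiplicative.ofAdd a) * h ^ i.val * (t * h ^ k) *
              φ (Multiplicative.ofAdd (((ρ * ρ) ^ k)⁻¹ * b)) := by rw [hmove k b]; group
          _ = _ := by rw [hth, pow_add]; group
      rw [e1]; exact hS2 _ _ _
  have ht' : ∀ s ∈ S, s * t ∈ S := by
    rintro s (⟨⟨i, a⟩, rfl⟩ | ⟨⟨⟨i, a⟩, b⟩, rfl⟩)
    · have e1 : P (i, a) * t = φ (Multiplicative.ofAdd a) * h ^ i.val * t * φ (Multiplicative.ofAdd 0) := by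
        simp [P]
      rw [e1]; exact hS2 _ _ _
    · show P (i, a) * t * φ (Multiplicative.ofAdd b) * t ∈ S
      rcases eq_or_ne b 0 with rfl | hb
      · rw [ofAdd_zero, map_one, mul_one, mul_assoc, htt]
        exact hh' _ (Or.inl ⟨(i, a), rfl⟩) N
      · obtain ⟨k, hk⟩ := hρgen b⁻¹ (inv_ne_zero hb)
        have hX := powers_relations ρ hρ0 t h φ hφ hT hB hD k
        rw [← hk, inv_inv] at hX
        have e2 : t * φ (Multiplicative.ofAdd b) * t⁻¹ = φ (Multiplicative.ofAdd (-b⁻¹)) * h ^ k * t *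
            φ (Multiplicative.ofAdd (-b⁻¹)) := by
          rw [ofAdd_neg, map_inv, mul_assoc _ (h ^ k) t, ← hX]; group
        have e3 : P (i, a) * t * φ (Multiplicative.ofAdd b) * t =
            P (i, a) * φ (Multiplicative.ofAdd (-b⁻¹)) * h ^ k * t * φ (Multiplicative.ofAdd (-b⁻¹)) * h ^ N := by
          calc P (i, a) * t * φ (Multiplicative.ofAdd b) * t
              = P (i, a) * (t * φ (Multiplicative.ofAdd b) * t⁻¹) * (t * t) := by group
            _ = _ := by rw [e2, htt]; group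
        rw [e3]
        refine hh' _ (hu' _ ?_ _) N
        obtain ⟨z, hz⟩ : P (i, a) * φ (Multiplicative.ofAdd (-b⁻¹)) * h ^ k ∈ Set.range P := by
          have e4 : P (i, a) * φ (Multiplicative.ofAdd (-b⁻¹)) * h ^ k =
              φ (Multiplicative.ofAdd (a + (ρ * ρ) ^ i.val * -b⁻¹)) * h ^ (i.val + k) := by
            simp only [P]; rw [ofAdd_add, map_mul, ← hconj, pow_add]; group
          rw [e4]; exact hP _ _
        exact Or.inr ⟨(z, 0), by simp [hz]⟩
  have hall : ∀ g : G, g ∈ S := by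
    intro g
    have hg : g ∈ Subgroup.closure ({u, t, h} : Set G) := by rw [hgen]; trivial
    induction hg using Subgroup.closure_induction_right with
    | one => exact Or.inl (by simpa using hP 0 0)
    | mul_right x hx y hy ih =>
      rcases hy with rfl | rfl | rfl
      · rw [← hu]; exact hu' _ ih _
      · exact ht' _ ih
      · rw [← pow_one y]; exact hh' _ ih 1
    | mul_inv_cancel x hx y hy ih =>
      rcases hy with rfl | rfl | rfl
      · rw [← hu, ← map_inv, ← ofAdd_neg]; exact hu' _ ih _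
      · have e1 : y⁻¹ = y * h ^ N := by
          rw [inv_eq_iff_mul_eq_one, ← mul_assoc, htt, ← pow_add, ← two_mul, hN2]
        rw [e1, ← mul_assoc]; exact hh' _ (ht' _ ih) N
      · have e1 : y⁻¹ = y ^ (e - 1) := by
          rw [inv_eq_iff_mul_eq_one, ← pow_succ', Nat.sub_add_cancel he0, he]
        rw [e1]; exact hh' _ ih _
  let Φ : (Fin e × F) ⊕ ((Fin e × F) × F) → G := Sum.elim P fun z => P z.1 * t * φ (Multiplicative.ofAdd z.2)
  have hsurj : Function.Surjective Φ := fun g => by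
    rcases hall g with ⟨z, hz⟩ | ⟨z, hz⟩
    · exact ⟨Sum.inl z, hz⟩
    · exact ⟨Sum.inr z, hz⟩
  haveI : Finite G := Finite.of_surjective Φ hsurj
  refine ⟨inferInstance, (Nat.card_le_card_of_surjective Φ hsurj).trans (le_of_eq ?_)⟩
  rw [Nat.card_eq_fintype_card]
  simp only [Fintype.card_sum, Fintype.card_prod, Fintype.card_fin]
  ring

end Bound

end CfsgLib.SL2Pres
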